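import Mathlib

/-!
Off-diagonal pairs of a Zariski dense sequence of points meet the diagonal in the closure.
-/

set_option autoImplicit false

universe u

open TensorProduct

namespace Groth.Agent.AlgSpDiagClosure

variable {k : Type u} [Field k] {B R K L : Type u} [CommRing B] [CommRing R] [CommRing K] [CommRing L]
  [Algebra k B] [Algebra k R] [Algebra k K] [Algebra k L]

/-- An element whose image in a tensor product of bigger algebras is nilpotent lies in every prime over both kernels. -/
theorem mem_of_isNilpotent_map (φ : B →ₐ[k] K) (ψ : R →ₐ[k] L) {z : B ⊗[k] R}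
    (hz : IsNilpotent (Algebra.TensorProduct.map φ ψ z)) (Q : Ideal (B ⊗[k] R)) [hQ : Q.IsPrime]
    (hl : RingHom.ker φ ≤ Q.comap (Algebra.TensorProduct.includeLeft : B →ₐ[k] B ⊗[k] R))
    (hr : RingHom.ker ψ ≤ Q.comap (Algebra.TensorProduct.includeRight : R →ₐ[k] B ⊗[k] R)) : z ∈ Q := by
  obtain ⟨N, hN⟩ := hz
  refine hQ.mem_of_pow_mem N ?_
  have hfac : Algebra.TensorProduct.map φ ψ =
      (Algebra.TensorProduct.map φ.range.val ψ.range.val).comp
        (Algebra.TensorProduct.map φ.rangeRestrict ψ.rangeRestrict) := by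
    ext x <;> simp
  have hinj : Function.Injective (Algebra.TensorProduct.map φ.range.val ψ.range.val) :=
    TensorProduct.map_injective_of_flat_flat φ.range.val.toLinearMap ψ.range.val.toLinearMap
      Subtype.val_injective Subtype.val_injective
  have h0 : Algebra.TensorProduct.map φ.rangeRestrict ψ.rangeRestrict (z ^ N) = 0 := by
    apply hinj
    rw [map_zero, ← AlgHom.comp_apply, ← hfac, map_pow, hN]
  have hmem : z ^ N ∈ RingHom.ker (Algebra.TensorProduct.map φ.rangeRestrict ψ.rangeRestrict) := h0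
  rw [Algebra.TensorProduct.map_ker _ _ φ.rangeRestrict_surjective ψ.rangeRestrict_surjective] at hmem
  have h1 : RingHom.ker φ.rangeRestrict ≤ RingHom.ker φ := fun x hx => congrArg Subtype.val hx
  have h2 : RingHom.ker ψ.rangeRestrict ≤ RingHom.ker ψ := fun x hx => congrArg Subtype.val hx
  exact sup_le (Ideal.map_le_iff_le_comap.2 (h1.trans hl)) (Ideal.map_le_iff_le_comap.2 (h2.trans hr)) hmem

/-- If the points `φ n` are infinitely recurrent off every proper closed subset, and `c` dies on all
off-diagonal pairs, then `c` is nilpotent. -/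
theorem isNilpotent_of_pairs {ι : Type*} [Nonempty ι] (K : ι → Type u) [∀ n, Field (K n)] [∀ n, Algebra k (K n)]
    (φ : ∀ n, B →ₐ[k] K n)
    (hdense : ∀ b : B, ¬ IsNilpotent b → ∀ n, ∃ m, m ≠ n ∧ φ m b ≠ 0)
    (c : B ⊗[k] B) (hc : ∀ n, ∀ m, n ≠ m → IsNilpotent (Algebra.TensorProduct.map (φ n) (φ m) c)) :
    IsNilpotent c := by
  have key : ∀ {C : Type u} [CommRing C] [Algebra k C] (z : C ⊗[k] B) (n : ι), ¬ IsNilpotent z →
      ∃ m, m ≠ n ∧ ∃ Q : Ideal (C ⊗[k] B), Q.IsPrime ∧ z ∉ Q ∧
        RingHom.ker (φ m) = Q.comap (Algebra.TensorProduct.includeRight : B →ₐ[k] C ⊗[k] B) := by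
    intro C _ _ z n hz
    let e := Algebra.TensorProduct.comm k C B
    have ho := PrimeSpectrum.isOpenMap_comap_algebraMap_tensorProduct_of_field (K := k) (A := B) (B := C) _
      (PrimeSpectrum.basicOpen (e z)).isOpen
    have hne : (PrimeSpectrum.basicOpen (e z) : Set (PrimeSpectrum (B ⊗[k] C))).Nonempty := by
      by_contra h
      refine hz ((IsNilpotent.map_iff e.injective).1 ?_)
      rw [← PrimeSpectrum.basicOpen_eq_bot_iff]
      exact SetLike.coe_injective (by simpa [Set.not_nonempty_iff_eq_empty] using h)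
    obtain ⟨_, ⟨b, rfl⟩, hne', hsub⟩ := PrimeSpectrum.isTopologicalBasis_basic_opens.exists_subset_of_mem_open
      (Set.mem_image_of_mem _ hne.some_mem) ho
    have hb : ¬ IsNilpotent b := fun h => hne' ((nilradical_le_prime _) h)
    obtain ⟨m, hmn, hmb⟩ := hdense b hb n
    obtain ⟨q, hq, hqe⟩ := hsub (show (⟨RingHom.ker (φ m), RingHom.ker_isPrime _⟩ : PrimeSpectrum B) ∈ PrimeSpectrum.basicOpen b from hmb)
    refine ⟨m, hmn, q.asIdeal.comap e, Ideal.comap_isPrime _ _, hq, ?_⟩
    have := congrArg PrimeSpectrum.asIdeal hqe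
    ext x
    exact (SetLike.ext_iff.1 this x).symm.trans (by simp [e])
  have step : ∀ n, IsNilpotent (Algebra.TensorProduct.map (φ n) (AlgHom.id k B) c) := by
    intro n
    by_contra h
    obtain ⟨m, hmn, Q, hQ, hzQ, hker⟩ := key _ n h
    refine hzQ (mem_of_isNilpotent_map (AlgHom.id k (K n)) (φ m) ?_ Q ?_ hker.le)
    · rw [← AlgHom.comp_apply, ← Algebra.TensorProduct.map_comp]
      exact hc n m hmn.symm
    · intro x hx
      rw [show x = 0 from hx]
      exact zero_mem _
  by_contra h
  have hcomm : ¬ IsNilpotent (Algebra.TensorProduct.comm k B B c) :=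
    fun h' => h ((IsNilpotent.map_iff (Algebra.TensorProduct.comm k B B).injective).1 h')
  obtain ⟨n, -, Q, hQ, hzQ, hker⟩ := key _ (Classical.arbitrary ι) hcomm
  refine hzQ ?_
  have := mem_of_isNilpotent_map (φ n) (AlgHom.id k B) (step n) (Q.comap (Algebra.TensorProduct.comm k B B)) ?_ ?_
  · exact this
  · exact hker.le.trans fun x hx => by simpa using hx
  · intro x hx
    rw [show x = 0 from hx]
    exact zero_mem _

end Groth.Agent.AlgSpDiagClosure
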